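import Cfsg.Agent.Lib.Char.Burnside
import Cfsg.Agent.Lib.Char.Regular
import Cfsg.Agent.Lib.CharNormal.Kernel
import Cfsg.Agent.Lib.CharBlocks.Degree
import Cfsg.Prelude.Def_DegreeGraph

/-!
# Three primes dividing character degrees of a non-solvable group

If the degree of every irreducible character of a simple group involved no prime outside `{p, q}`,
then at a non-trivial element central in a Sylow `p`-subgroup every non-principal character either
has degree divisible by `q` or vanishes (Burnside), against column orthogonality.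
-/

set_option autoImplicit false

namespace CfsgLib.CharNormal.DegreePrimes

open Module Cfsg CfsgLib.Char
open scoped ComplexConjugate

section Simple

variable {G : Type*} [Group G] [Fintype G] [IsSimpleGroup G]

/-- In a non-abelian simple group a non-principal irreducible character vanishes at a non-identity
element whose class size is prime to its degree. -/
theorem apply_eq_zero_of_coprime (hna : ∃ a b : G, a * b ≠ b * a) (χ : Cfsg.IrrCharacter G)
    (hne : χ ≠ irrOne) {n : ℕ} (hn : (χ : G → ℂ) 1 = n) {g : G} (hg : g ≠ 1)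
    (hcop : Nat.Coprime n (Subgroup.centralizer ({g} : Set G)).index) : (χ : G → ℂ) g = 0 := by
  classical
  have hcen : Subgroup.center G = ⊥ := by
    refine (Subgroup.Normal.eq_bot_or_eq_top inferInstance).resolve_right fun h => ?_
    obtain ⟨a, b, hab⟩ := hna
    exact hab (Subgroup.mem_center_iff.mp (h ▸ Subgroup.mem_top b : b ∈ Subgroup.center G) a)
  obtain ⟨m, ρ, hirr, hρ⟩ := χ.2
  have hker : (ρ : G →* ((Fin m → ℂ) →ₗ[ℂ] (Fin m → ℂ))).ker = ⊥ := by
    refine (Subgroup.Normal.eq_bot_or_eq_top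
      (ρ : G →* ((Fin m → ℂ) →ₗ[ℂ] (Fin m → ℂ))).normal_ker).resolve_right fun htop => ?_
    have hconst : ∀ x, (χ : G → ℂ) x = (χ : G → ℂ) 1 := fun x => by
      rw [← congrFun hρ x, ← congrFun hρ 1]
      have : ρ x = 1 := MonoidHom.mem_ker.mp (htop ▸ Subgroup.mem_top x)
      simp [Representation.character, this]
    have h1 := classInner_irr_ne χ.2 isIrrCharacter_one (fun h => hne (Subtype.ext h))
    rw [classInner_def, Finset.sum_congr rfl (fun x _ => by rw [hconst x, map_one, mul_one]),
      Finset.sum_const, Finset.card_univ, nsmul_eq_mul, ← Nat.card_eq_fintype_card,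
      inv_mul_cancel_left₀ card_ne_zero'] at h1
    exact irr_one_ne_zero χ.2 h1
  have hfr : finrank ℂ (Fin m → ℂ) = n := by
    have h := congrFun hρ 1
    rw [Representation.char_one, hn] at h
    exact_mod_cast h
  rw [← congrFun hρ g]
  refine (zero_or_norm_eq ρ g (hfr ▸ hcop)).resolve_right fun hnorm => hg ?_
  obtain ⟨ω, hω⟩ := (norm_character_eq_iff ρ g).mp hnorm
  have : g ∈ Subgroup.center G := Subgroup.mem_center_iff.mpr fun x =>
    (ρ.ker_eq_bot_iff.mp hker) (by
      rw [map_mul, map_mul, hω]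
      exact LinearMap.ext fun v => by simp)
  rwa [hcen, Subgroup.mem_bot] at this

/-- Every pair of primes misses a prime divisor of some character degree. -/
theorem exists_prime_ne_ne (hna : ∃ a b : G, a * b ≠ b * a) {p q : ℕ} (hp : p.Prime) (hq : q.Prime) :
    ∃ r ∈ Cfsg.degreePrimes G, r ≠ p ∧ r ≠ q := by
  classical
  by_contra hall
  push Not at hall
  obtain ⟨g, hg, hpow⟩ : ∃ g : G, g ≠ 1 ∧
      (p ∣ Nat.card G → ¬ p ∣ (Subgroup.centralizer ({g} : Set G)).index) := by
    by_cases hpG : p ∣ Nat.card G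
    · haveI := Fact.mk hp
      let P : Sylow p G := default
      have hP : Nontrivial (P : Subgroup G) := by
        rw [← Finite.one_lt_card_iff_nontrivial]
        exact hp.one_lt.trans_le (Nat.le_of_dvd Nat.card_pos (P.dvd_card_of_dvd_card hpG))
      have : Nontrivial (Subgroup.center (P : Subgroup G)) := P.2.center_nontrivial
      obtain ⟨z, hz⟩ := exists_ne (1 : Subgroup.center (P : Subgroup G))
      refine ⟨((z : (P : Subgroup G)) : G), fun h => hz (Subtype.ext (Subtype.ext h)),
        fun _ h => P.not_dvd_index (h.trans (Subgroup.index_dvd_of_le ?_))⟩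
      intro x hx
      rw [Subgroup.mem_centralizer_singleton_iff]
      exact congrArg Subtype.val (Subgroup.mem_center_iff.mp z.2 ⟨x, hx⟩)
    · obtain ⟨g, hg⟩ := exists_ne (1 : G)
      exact ⟨g, hg, fun h => absurd h hpG⟩
  -- every non-principal summand is `q` times an algebraic integer
  have key : ∀ χ ∈ Finset.univ.erase (irrOne (G := G)),
      IsIntegral ℤ ((χ : G → ℂ) 1 * (χ : G → ℂ) g / q) := by
    intro χ hχ
    obtain ⟨n, hn0, hn⟩ := exists_degree_pos χ.2
    by_cases hqn : q ∣ n
    · obtain ⟨k, rfl⟩ := hqn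
      have hq0 : (q : ℂ) ≠ 0 := by exact_mod_cast hq.ne_zero
      have : (χ : G → ℂ) 1 * (χ : G → ℂ) g / q = (k : ℂ) * (χ : G → ℂ) g := by
        rw [hn]; push_cast; field_simp
      rw [this]
      have hk : IsIntegral ℤ (k : ℂ) := by simpa using isIntegral_algebraMap (A := ℂ) (x := (k : ℤ))
      exact hk.mul
        (char_isIntegral (isCharacter_of_isIrr χ.2) g)
    · have hz : (χ : G → ℂ) g = 0 := by
        refine apply_eq_zero_of_coprime hna χ (Finset.ne_of_mem_erase hχ) hn hg ?_
        refine Nat.coprime_of_dvd fun r hr hrn hri => ?_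
        have hrdeg : r ∈ Cfsg.degreePrimes G :=
          ⟨hr, n, ⟨χ, CfsgLib.CharBlocks.charDegree_eq hn⟩, hrn⟩
        have hrp : r = p := by
          by_contra h
          exact hqn (hall r hrdeg h ▸ hrn)
        subst hrp
        exact hpow (hrn.trans (degree_dvd_card χ.2 hn)) hri
      rw [hz]
      simpa using isIntegral_zero
  have hsum := sum_degree_mul_apply g
  rw [if_neg hg, ← Finset.add_sum_erase Finset.univ _ (Finset.mem_univ (irrOne (G := G)))] at hsum
  simp only [irrOne_apply, mul_one] at hsum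
  have hint : IsIntegral ℤ ((-1 : ℂ) / q) := by
    rw [← eq_neg_of_add_eq_zero_right hsum, Finset.sum_div]
    exact IsIntegral.sum _ key
  obtain ⟨z, hz⟩ : ∃ z : ℤ, ((-1 : ℂ) / q) = z := by
    have hrat : IsIntegral ℤ ((-1 : ℚ) / q) := by
      rw [← isIntegral_algebraMap_iff (R := ℤ) (A := ℚ) (B := ℂ)
        (FaithfulSMul.algebraMap_injective ℚ ℂ)]
      simpa using hint
    obtain ⟨z, hz⟩ := IsIntegrallyClosed.isIntegral_iff.mp hrat
    exact ⟨z, by
      have := congrArg (fun x : ℚ => (x : ℂ)) hz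
      simpa using this.symm⟩
  rw [div_eq_iff (by exact_mod_cast hq.ne_zero)] at hz
  have h1 : (-1 : ℤ) = z * q := by exact_mod_cast hz
  have : (q : ℤ) ∣ 1 := ⟨-z, by linarith⟩
  exact hq.one_lt.ne' (Nat.dvd_one.mp (by exact_mod_cast this))

end Simple

universe u

theorem degreePrimes_quotient_subset {G : Type u} [Group G] [Finite G] (N : Subgroup G) [N.Normal] :
    Cfsg.degreePrimes (G ⧸ N) ⊆ Cfsg.degreePrimes G := by
  rintro p ⟨hp, d, ⟨ψ, rfl⟩, hpd⟩
  refine ⟨hp, _, ⟨⟨_, isIrr_comp_mk' N ψ.2⟩, rfl⟩, ?_⟩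
  simpa [Cfsg.charDegree] using hpd

theorem degreePrimes_normal_subset {G : Type u} [Group G] [Finite G] (N : Subgroup G) [N.Normal] :
    Cfsg.degreePrimes N ⊆ Cfsg.degreePrimes G := by
  classical
  haveI := Fintype.ofFinite G
  haveI := Fintype.ofFinite N
  rintro p ⟨hp, d, ⟨θ, rfl⟩, hpd⟩
  obtain ⟨χ, hχ⟩ := exists_irr_over N θ.2
  refine ⟨hp, _, ⟨χ, rfl⟩, hpd.trans ?_⟩
  obtain ⟨n, hn0, hn⟩ := exists_degree_pos χ.2
  obtain ⟨t, ht0, ht⟩ := exists_degree_pos θ.2
  obtain ⟨m, hm⟩ := classInner_char_nat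
    (isCharacter_res N (isCharacter_of_isIrr χ.2)) (isCharacter_of_isIrr θ.2)
  have h := degree_eq_mul_card_orbit N χ.2 θ hχ
  rw [CfsgLib.CharBlocks.charDegree_eq hn, CfsgLib.CharBlocks.charDegree_eq ht]
  refine ⟨m * (orbit N θ).card, ?_⟩
  have : (n : ℂ) = ((t * (m * (orbit N θ).card) : ℕ) : ℂ) := by
    rw [← hn, h, hm, ht]; push_cast; ring
  exact_mod_cast this

/-- A non-solvable group has, outside any two primes, a prime dividing a character degree. -/
theorem exists_prime_ne_ne_of_not_solvable {p q : ℕ} (hp : p.Prime) (hq : q.Prime) :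
    ∀ (k : ℕ) (G : Type u) [Group G] [Finite G], Nat.card G = k → ¬ Group.IsSolvable G →
      ∃ r ∈ Cfsg.degreePrimes G, r ≠ p ∧ r ≠ q := by
  intro k
  induction k using Nat.strong_induction_on with
  | _ k ih =>
    intro G _ _ hk hG
    have hna : ∃ a b : G, a * b ≠ b * a := by
      by_contra h
      push Not at h
      exact hG (isSolvable_of_comm h)
    haveI : Nontrivial G := by
      obtain ⟨a, b, h⟩ := hna
      exact ⟨a * b, b * a, h⟩
    by_cases hs : IsSimpleGroup G
    · haveI := Fintype.ofFinite G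
      exact exists_prime_ne_ne hna hp hq
    · obtain ⟨N, hN, hb, ht⟩ : ∃ N : Subgroup G, N.Normal ∧ N ≠ ⊥ ∧ N ≠ ⊤ := by
        by_contra h
        push Not at h
        exact hs ⟨fun N hN => or_iff_not_imp_left.mpr (h N hN)⟩
      haveI := hN
      by_cases hNs : Group.IsSolvable N
      · have hQ : ¬ Group.IsSolvable (G ⧸ N) := fun hQ =>
          hG (solvable_of_ker_le_range N.subtype (QuotientGroup.mk' N) (by simp))
        have hlt : Nat.card (G ⧸ N) < k := by
          rw [← hk, Subgroup.card_eq_card_quotient_mul_card_subgroup N]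
          exact lt_mul_of_one_lt_right Nat.card_pos ((Subgroup.one_lt_card_iff_ne_bot N).mpr hb)
        obtain ⟨r, hr, h⟩ := ih _ hlt (G ⧸ N) rfl hQ
        exact ⟨r, degreePrimes_quotient_subset N hr, h⟩
      · have hlt : Nat.card N < k := hk ▸
          lt_of_le_of_ne (Subgroup.card_le_card_group N) (fun h => ht (Subgroup.card_eq_iff_eq_top N |>.mp h))
        obtain ⟨r, hr, h⟩ := ih _ hlt N rfl hNs
        exact ⟨r, degreePrimes_normal_subset N hr, h⟩

end CfsgLib.CharNormal.DegreePrimes
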